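import Mathlib
import Cfsg.Agent.Base
import Cfsg.Agent.Lib.CGT.Conj
import Cfsg.Agent.Lib.J4.PGen

/-! Counting conjugacy classes block by block. -/

set_option autoImplicit false

namespace H74.J4C
open Subgroup H54

theorem ncard_image_eq {α β γ δ : Type*} {f : α → β} {g : γ → δ} {X : Set α} {Y : Set γ} (R : α → γ → Prop)
    (h1 : ∀ a ∈ X, ∃ c ∈ Y, R a c) (h2 : ∀ c ∈ Y, ∃ a ∈ X, R a c)
    (h3 : ∀ a ∈ X, ∀ a' ∈ X, ∀ c ∈ Y, ∀ c' ∈ Y, R a c → R a' c' → (f a = f a' ↔ g c = g c')) :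
    (f '' X).ncard = (g '' Y).ncard := by
  choose φ hφ using h1
  have key : ∀ b ∈ f '' X, ∃ a, ∃ h : a ∈ X, f a = b := fun b ⟨a, h, e⟩ => ⟨a, h, e⟩
  choose ψ hψ e using key
  refine Set.ncard_congr (fun b hb => g (φ (ψ b hb) (hψ b hb))) (fun b hb => ⟨_, (hφ _ _).1, rfl⟩)
    (fun b b' hb hb' e' => ?_) ?_
  · rw [← e b hb, ← e b' hb']
    exact (h3 _ (hψ _ _) _ (hψ _ _) _ (hφ _ _).1 _ (hφ _ _).1 (hφ _ _).2 (hφ _ _).2).2 e'
  · rintro _ ⟨c, hc, rfl⟩
    obtain ⟨a, ha, r⟩ := h2 c hc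
    exact ⟨f a, ⟨a, ha, rfl⟩, (h3 _ (hψ _ _) _ ha _ (hφ _ _).1 _ hc (hφ _ _).2 r).1 (e _ _)⟩

variable {G : Type*} [Group G]

/-- conjugate under `H` -/
def CH (H : Subgroup G) (a b : G) : Prop := ∃ h ∈ H, h * a * h⁻¹ = b

theorem CH.refl (H : Subgroup G) (a : G) : CH H a a := ⟨1, H.one_mem, by simp⟩
theorem CH.symm {H : Subgroup G} {a b : G} (h : CH H a b) : CH H b a := by
  obtain ⟨k, hk, rfl⟩ := h
  exact ⟨k⁻¹, H.inv_mem hk, by group⟩
theorem CH.trans {H : Subgroup G} {a b c : G} (h : CH H a b) (h' : CH H b c) : CH H a c := by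
  obtain ⟨k, hk, rfl⟩ := h
  obtain ⟨l, hl, rfl⟩ := h'
  exact ⟨l * k, H.mul_mem hl hk, by group⟩
theorem CH.isConj {H : Subgroup G} {a b : G} (h : CH H a b) : IsConj a b := by
  obtain ⟨k, -, e⟩ := h
  exact isConj_iff.2 ⟨k, e⟩
theorem ch_top {a b : G} : CH ⊤ a b ↔ IsConj a b :=
  ⟨CH.isConj, fun h => (isConj_iff.1 h).elim fun k e => ⟨k, trivial, e⟩⟩
theorem CH.order {H : Subgroup G} {a b : G} (h : CH H a b) : orderOf a = orderOf b := by
  obtain ⟨k, -, rfl⟩ := h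
  exact ((MulAut.conj k).orderOf_eq a).symm
theorem ord_of_conj {a b : G} (h : IsConj a b) : orderOf a = orderOf b := (ch_top.2 h).order
theorem pow_of_conj {a b : G} (h : IsConj a b) (n : ℕ) : IsConj (a ^ n) (b ^ n) := by
  obtain ⟨k, rfl⟩ := isConj_iff.1 h
  exact isConj_iff.2 ⟨k, conj_pow.symm⟩

theorem cls_eq {H : Subgroup G} {a b : G} : clsIn H a = clsIn H b ↔ CH H a b :=
  ⟨fun h => show b ∈ clsIn H a from h ▸ CH.refl H b,
    fun h => Set.ext fun _ => ⟨fun k => h.symm.trans k, fun k => h.trans k⟩⟩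

/-- the number of `H`-classes meeting `X` -/
noncomputable def KH (H : Subgroup G) (X : Set G) : ℕ := (clsIn H '' X).ncard

theorem card_conjClasses : Nat.card (ConjClasses G) = KH (⊤ : Subgroup G) Set.univ := by
  rw [KH, ← ncard_image_eq (f := ConjClasses.mk) (X := Set.univ) (Y := Set.univ) (· = ·) (fun a _ => ⟨a, trivial, rfl⟩)
    (fun a _ => ⟨a, trivial, rfl⟩) (by
      rintro a - a' - _ - _ - rfl rfl
      rw [cls_eq, ch_top, ConjClasses.mk_eq_mk_iff_isConj]),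
    Set.image_univ_of_surjective ConjClasses.mk_surjective, Set.ncard_univ]

theorem KH_eq {H : Subgroup G} {X : Set G} {ι : Type*} (I : Finset ι) (ρ : ι → G) (mem : ∀ i ∈ I, ρ i ∈ X)
    (sep : ∀ i ∈ I, ∀ j ∈ I, CH H (ρ i) (ρ j) → i = j) (cov : ∀ x ∈ X, ∃ i ∈ I, CH H (ρ i) x) :
    KH H X = I.card := by
  rw [← Set.ncard_coe_finset, ← Set.image_id (I : Set ι)]
  refine ncard_image_eq (fun x i => CH H (ρ i) x) cov (fun i hi => ⟨_, mem i hi, CH.refl _ _⟩)
    fun a _ a' _ i hi j hj r r' => ?_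
  rw [cls_eq]
  exact ⟨fun h => sep i hi j hj (r.trans (h.trans r'.symm)), fun e => r.symm.trans (by
    obtain rfl : i = j := e; exact r')⟩

theorem KH_list {H : Subgroup G} {X : Set G} (L : List G) (mem : ∀ a ∈ L, a ∈ X)
    (sep : L.Pairwise fun a b => ¬ CH H a b) (cov : ∀ x ∈ X, ∃ a ∈ L, CH H a x) : KH H X = L.length := by
  rw [KH_eq (ι := Fin L.length) Finset.univ (fun i => L[i]) (fun i _ => mem _ (List.getElem_mem i.2))
    (fun i _ j _ h => ?_) fun x hx => ?_, Finset.card_univ, Fintype.card_fin]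
  · by_contra n
    rcases lt_or_gt_of_ne n with c | c
    · exact List.pairwise_iff_getElem.1 sep i j i.2 j.2 c h
    · exact List.pairwise_iff_getElem.1 sep j i j.2 i.2 c h.symm
  · obtain ⟨a, ha, h⟩ := cov x hx
    obtain ⟨i, hi, rfl⟩ := List.getElem_of_mem ha
    exact ⟨⟨i, hi⟩, Finset.mem_univ _, h⟩

variable [Finite G]

theorem KH_split {H : Subgroup G} (X : Set G) (P : G → Prop) (hP : ∀ a b, CH H a b → P a → P b) :
    KH H X = KH H {g | g ∈ X ∧ P g} + KH H {g | g ∈ X ∧ ¬ P g} := by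
  rw [KH, KH, KH, ← Set.ncard_union_eq ?_ (Set.toFinite _) (Set.toFinite _), ← Set.image_union]
  · congr 2
    ext g; by_cases h : P g <;> simp [h]
  · rw [Set.disjoint_left]
    rintro _ ⟨a, ha, rfl⟩ ⟨b, hb, e⟩
    exact hb.2 (hP _ _ (cls_eq.1 e).symm ha.2)

theorem exists_reps (H : Subgroup G) (X : Set G) : ∃ L : List G, (∀ a ∈ L, a ∈ X) ∧
    (L.Pairwise fun a b => ¬ CH H a b) ∧ ∀ x ∈ X, ∃ a ∈ L, CH H a x := by
  classical
  have : ∀ T : Finset G, ∃ L : List G, (∀ a ∈ L, a ∈ T) ∧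
      (L.Pairwise fun a b => ¬ CH H a b) ∧ ∀ x ∈ T, ∃ a ∈ L, CH H a x := fun T => by
    induction T using Finset.induction_on with
    | empty => exact ⟨[], by simp, .nil, by simp⟩
    | insert t T _ ih =>
      obtain ⟨L, h1, h2, h3⟩ := ih
      by_cases c : ∃ a ∈ L, CH H a t
      · exact ⟨L, fun a ha => Finset.mem_insert_of_mem (h1 a ha), h2, fun x hx =>
          (Finset.mem_insert.1 hx).elim (fun e => e ▸ c) (h3 x)⟩
      · refine ⟨t :: L, fun a ha => ?_, List.pairwise_cons.2 ⟨fun a ha h => c ⟨a, ha, h.symm⟩, h2⟩, fun x hx => ?_⟩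
        · rcases List.mem_cons.1 ha with rfl | ha
          exacts [Finset.mem_insert_self _ _, Finset.mem_insert_of_mem (h1 a ha)]
        · rcases Finset.mem_insert.1 hx with rfl | hx
          · exact ⟨x, List.mem_cons_self, CH.refl _ _⟩
          · obtain ⟨a, ha, h⟩ := h3 x hx
            exact ⟨a, List.mem_cons_of_mem _ ha, h⟩
  obtain ⟨L, h1, h2, h3⟩ := this (Set.toFinite X).toFinset
  exact ⟨L, fun a ha => by simpa using h1 a ha, h2, fun x hx => h3 x (by simpa using hx)⟩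

/-- sum over the classes of a class function -/
theorem KH_sum {H : Subgroup G} (F : G → G) (hF : ∀ a b, CH H a b → CH H (F a) (F b)) :
    ∀ (L : List G) (X : Set G), (L.Pairwise fun a b => ¬ CH H a b) → (∀ x ∈ X, ∃ a ∈ L, CH H a (F x)) →
      KH H X = (L.map fun a => KH H {g | g ∈ X ∧ CH H a (F g)}).sum
  | [], X, _, c => by
    rw [show X = ∅ from Set.eq_empty_of_forall_notMem fun x hx => by simpa using c x hx]
    simp [KH]
  | a :: L, X, s, c => by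
    rw [List.pairwise_cons] at s
    rw [KH_split X (fun g => CH H a (F g)) fun x y h k => k.trans (hF _ _ h), List.map_cons, List.sum_cons,
      KH_sum F hF L {g | g ∈ X ∧ ¬ CH H a (F g)} s.2 fun x hx => by
        obtain ⟨b, hb, h⟩ := c x hx.1
        rcases List.mem_cons.1 hb with rfl | hb
        exacts [absurd h hx.2, ⟨b, hb, h⟩]]
    congr 2
    refine List.map_congr_left fun b hb => congrArg _ (Set.ext fun g => ?_)
    exact ⟨fun h => ⟨h.1.1, h.2⟩, fun h => ⟨⟨h.1, fun k => s.1 b hb (k.trans h.2.symm)⟩, h.2⟩⟩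

/-- classes of the same size -/
theorem KH_mul {H : Subgroup G} {X : Set G} {e : ℕ} (h : ∀ a ∈ X, clsIn H a ⊆ X ∧ (clsIn H a).ncard = e) :
    KH H X * e = X.ncard := by
  classical
  have hX := Set.toFinite X
  rw [KH, Set.ncard_eq_toFinset_card X hX, Finset.card_eq_sum_card_image (clsIn H),
    Finset.sum_congr rfl (g := fun _ => e), Finset.sum_const, smul_eq_mul,
    ← Set.ncard_coe_finset, Finset.coe_image, Set.Finite.coe_toFinset]
  intro b hb
  obtain ⟨a, ha, rfl⟩ := Finset.mem_image.1 hb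
  rw [Set.Finite.mem_toFinset] at ha
  rw [← (h a ha).2, ← Set.ncard_coe_finset]
  congr 1
  ext x
  simp only [Finset.coe_filter, Set.Finite.mem_toFinset, Set.mem_ofPred_eq, cls_eq]
  exact ⟨fun k => k.2.symm, fun k => ⟨(h a ha).1 k, CH.symm k⟩⟩

/-- exponents giving the `p`-part and the `p'`-part -/
structure Parts (G : Type*) [Group G] (p E F : ℕ) : Prop where
  mul : ∀ g : G, g ^ E * g ^ F = g
  fst : ∀ g : G, ∃ k, orderOf (g ^ E) = p ^ k
  snd : ∀ g : G, ¬ p ∣ orderOf (g ^ F)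
  one : ∀ g : G, orderOf g = p → g ^ E = g
  two : ∀ g : G, ¬ p ∣ orderOf g → g ^ E = 1

theorem exists_parts {p : ℕ} (hp : p.Prime) : ∃ E F, Parts G p E F := by
  obtain ⟨a, B, hB, e⟩ := Nat.exists_eq_pow_mul_and_not_dvd (Nat.card_pos (α := G)).ne' p hp.ne_one
  have cp : Nat.Coprime (p ^ a) B := Nat.Coprime.pow_left a ((Nat.Prime.coprime_iff_not_dvd hp).2 hB)
  obtain ⟨E, e1, e2⟩ := Nat.chineseRemainder cp 1 0
  obtain ⟨F, f1, f2⟩ := Nat.chineseRemainder cp 0 1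
  have d : ∀ g : G, orderOf g ∣ p ^ a * B := fun g => e ▸ orderOf_dvd_natCard g
  refine ⟨E, F, fun g => ?_, fun g => ?_, fun g h => hB (h.trans ?_), fun g h => ?_, fun g h => ?_⟩
  · rw [← pow_add]
    conv_rhs => rw [← pow_one g]
    exact pow_eq_pow_iff_modEq.2 (Nat.ModEq.of_dvd (d g) ((Nat.modEq_and_modEq_iff_modEq_mul cp).1
      ⟨e1.add f1, e2.add f2⟩))
  · refine ((Nat.dvd_prime_pow hp (m := a)).1 (orderOf_dvd_of_pow_eq_one ?_)).imp fun _ h => h.2
    rw [← pow_mul, ← orderOf_dvd_iff_pow_eq_one, mul_comm]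
    exact (d g).trans (Nat.mul_dvd_mul_left _ ((Nat.modEq_zero_iff_dvd).1 e2))
  · refine orderOf_dvd_of_pow_eq_one ?_
    rw [← pow_mul, ← orderOf_dvd_iff_pow_eq_one]
    exact (d g).trans (Nat.mul_dvd_mul_right ((Nat.modEq_zero_iff_dvd).1 f1) _)
  · conv_rhs => rw [← pow_one g]
    refine pow_eq_pow_iff_modEq.2 (Nat.ModEq.of_dvd ?_ e1)
    have := d g
    rw [h] at this ⊢
    exact Nat.Coprime.dvd_of_dvd_mul_right ((Nat.Prime.coprime_iff_not_dvd hp).2 hB) this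
  · rw [← orderOf_dvd_iff_pow_eq_one]
    exact (Nat.Coprime.dvd_of_dvd_mul_left (Nat.Coprime.pow_right a
      ((Nat.Prime.coprime_iff_not_dvd hp).2 h).symm) (d g)).trans ((Nat.modEq_zero_iff_dvd).1 e2)

/-- the `p'`-elements of the centraliser of `y` -/
def Fib (p : ℕ) (φ : ℕ → Prop) (y : G) : Set G :=
  {r | r ∈ centralizer {y} ∧ ¬ p ∣ orderOf r ∧ φ (p * orderOf r)}

theorem ord_mul {p : ℕ} (hp : p.Prime) {y r : G} (oy : orderOf y = p) (hr : r ∈ centralizer {y})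
    (h : ¬ p ∣ orderOf r) : orderOf (y * r) = p * orderOf r := by
  rw [Commute.orderOf_mul_eq_mul_orderOf_of_coprime (mem_centralizer_singleton_iff.1 hr).symm
    (by rw [oy]; exact (Nat.Prime.coprime_iff_not_dvd hp).2 h), oy]

theorem fib {p E F : ℕ} (hp : p.Prime) (P : Parts G p E F) {y : G} (oy : orderOf y = p) (φ : ℕ → Prop) :
    KH ⊤ {g | φ (orderOf g) ∧ CH ⊤ y (g ^ E)} = KH (centralizer {y}) (Fib p φ y) := by
  have key : ∀ r ∈ Fib p φ y, (y * r) ^ E = y := fun r hr => by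
    rw [Commute.mul_pow (mem_centralizer_singleton_iff.1 hr.1).symm, P.one y oy, P.two r hr.2.1, mul_one]
  refine ncard_image_eq (fun g r => CH ⊤ g (y * r)) ?_ (fun r hr => ⟨y * r, ⟨?_, ?_⟩, CH.refl _ _⟩)
    fun a _ a' _ r hr r' hr' h h' => ?_
  · rintro g ⟨h1, k, -, e⟩
    have e1 : k⁻¹ * g * k⁻¹⁻¹ = y * (k⁻¹ * g ^ F * k⁻¹⁻¹) := by
      conv_lhs => rw [← P.mul g, ← e]
      group
    have e2 : k⁻¹ * g ^ F * k⁻¹⁻¹ ∈ centralizer {y} := mem_centralizer_singleton_iff.2 (by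
      rw [show y = k⁻¹ * g ^ E * k⁻¹⁻¹ by rw [← e]; group, conj_mul, conj_mul, pow_mul_comm])
    have e3 : ¬ p ∣ orderOf (k⁻¹ * g ^ F * k⁻¹⁻¹) := by
      rw [← CH.order ⟨k⁻¹, mem_top _, rfl⟩]; exact P.snd g
    refine ⟨_, ⟨e2, e3, ?_⟩, k⁻¹, trivial, e1⟩
    rwa [← ord_mul hp oy e2 e3, ← e1, ← CH.order ⟨k⁻¹, mem_top _, rfl⟩]
  · rw [ord_mul hp oy hr.1 hr.2.1]; exact hr.2.2
  · rw [key r hr]; exact CH.refl _ _
  · rw [cls_eq, cls_eq]
    refine ⟨fun c => ?_, fun ⟨k, hk, e⟩ => h.trans (CH.trans ⟨k, trivial, ?_⟩ h'.symm)⟩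
    · obtain ⟨k, -, e⟩ := h.symm.trans (c.trans h')
      have e1 : k * y * k⁻¹ = y := by rw [← key r hr, ← conj_pow, e, key r hr, key r' hr']
      refine ⟨k, mem_centralizer_singleton_iff.2 (mul_inv_eq_iff_eq_mul.1 e1), ?_⟩
      rwa [← conj_mul, e1, mul_right_inj] at e
    · rw [← conj_mul, e, mem_centralizer_singleton_iff.1 hk, mul_inv_cancel_right]

theorem block {p : ℕ} (hp : p.Prime) (hx : ∀ g : G, ∀ k, orderOf g = p ^ k → g ^ p = 1) (φ : ℕ → Prop)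
    (L : List G) (mem : ∀ y ∈ L, orderOf y = p) (sep : L.Pairwise fun a b => ¬ CH ⊤ a b)
    (cov : ∀ x : G, orderOf x = p → ∃ a ∈ L, CH ⊤ a x) :
    KH ⊤ {g : G | p ∣ orderOf g ∧ φ (orderOf g)} = (L.map fun y => KH (centralizer {y}) (Fib p φ y)).sum := by
  haveI := Fact.mk hp
  obtain ⟨E, F, P⟩ := exists_parts (G := G) hp
  rw [KH_sum (· ^ E) (fun a b h => ch_top.2 (pow_of_conj h.isConj E)) L _ sep fun x h => cov _ ?_]
  · congr 1
    refine List.map_congr_left fun y hy => ?_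
    rw [← fib hp P (mem y hy)]
    congr 1
    ext g
    exact ⟨fun h => ⟨h.1.2, h.2⟩, fun h => ⟨⟨by
      rw [← mem y hy, h.2.order]; exact orderOf_pow_dvd E, h.1⟩, h.2⟩⟩
  · obtain ⟨k, e⟩ := P.fst x
    refine orderOf_eq_prime (hx _ k e) fun e1 => P.snd x ?_
    have := P.mul x
    rw [e1, one_mul] at this
    rw [this]; exact h.1

theorem block_const {p c : ℕ} (hp : p.Prime) (hx : ∀ g : G, ∀ k, orderOf g = p ^ k → g ^ p = 1) (φ : ℕ → Prop)
    (h : ∀ y : G, orderOf y = p → KH (centralizer {y}) (Fib p φ y) = c) :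
    KH ⊤ {g : G | p ∣ orderOf g ∧ φ (orderOf g)} = KH ⊤ {g : G | orderOf g = p} * c := by
  obtain ⟨L, h1, h2, h3⟩ := exists_reps ⊤ {g : G | orderOf g = p}
  rw [block hp hx φ L h1 h2 h3, KH_list L h1 h2 h3, List.map_congr_left fun y hy => h y (h1 y hy)]
  simp

theorem exp_of_not_sq {p : ℕ} (hp : p.Prime) (h : ¬ p ^ 2 ∣ Nat.card G) (g : G) (k : ℕ) (e : orderOf g = p ^ k) :
    g ^ p = 1 := by
  rw [← orderOf_dvd_iff_pow_eq_one, e]
  rcases Nat.lt_or_ge k 2 with c | c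
  · exact (pow_dvd_pow p (Nat.le_of_lt_succ c)).trans (by rw [pow_one])
  · exact absurd ((pow_dvd_pow p c).trans (e ▸ orderOf_dvd_natCard g)) h

/-- the classes of elements of order `p` when the Sylow subgroup has order `p` -/
theorem KP {p e : ℕ} (hp : p.Prime) (h : ¬ p ^ 2 ∣ Nat.card G) {y : G} (oy : orderOf y = p)
    (he : Nat.card (normalizer (zpowers y : Set G)) = e * Nat.card (centralizer ({y} : Set G))) :
    KH ⊤ {g : G | orderOf g = p} * e = p - 1 := by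
  haveI := Fact.mk hp
  have k1 : ∀ w ∈ (zpowers y : Set G) \ {1}, orderOf w = p ∧ zpowers w = zpowers y := fun w hw => by
    have o : orderOf w = p := orderOf_eq_prime (by
      simpa [oy] using H75.J4.pow_card_eq_one_of_mem hw.1) hw.2
    exact ⟨o, eq_of_le_of_card_ge (zpowers_le.2 hw.1) (by rw [Nat.card_zpowers, Nat.card_zpowers, o, oy])⟩
  have k2 : KH ⊤ {g : G | orderOf g = p} = KH (normalizer (zpowers y : Set G)) ((zpowers y : Set G) \ {1}) := by
    refine ncard_image_eq (CH ⊤) (fun g hg => ?_) (fun w hw => ⟨w, (k1 w hw).1, CH.refl _ _⟩)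
      fun a _ a' _ w hw w' hw' r r' => ?_
    · obtain ⟨k, -, i, -, e⟩ := H75.J4.exists_conj_prime (p := p) (K := ⊤) (by rwa [card_top]) (mem_top g)
        (mem_top y) hg oy
      refine ⟨y ^ i, ⟨pow_mem (mem_zpowers y) i, fun e1 => ?_⟩, k, trivial, e⟩
      rw [Set.mem_singleton_iff, ← e, conj_eq_one_iff] at e1
      rw [Set.mem_ofPred_eq, e1, orderOf_one] at hg
      exact hp.one_lt.ne hg
    · rw [cls_eq, cls_eq]
      refine ⟨fun c => ?_, fun ⟨k, _, e⟩ => r.trans (CH.trans ⟨k, trivial, e⟩ r'.symm)⟩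
      obtain ⟨k, -, e⟩ := r.symm.trans (c.trans r')
      refine ⟨k, mem_normalizer_fintype fun x hx => ?_, e⟩
      obtain ⟨i, rfl⟩ := (k1 w hw).2.ge hx
      simp only
      rw [← conj_zpow, e]
      exact zpow_mem hw'.1 i
  rw [k2, KH_mul (e := e) fun w hw => ⟨?_, ?_⟩, Set.ncard_sdiff_singleton_of_mem (one_mem _),
    ← Nat.card_coe_set_eq, SetLike.coe_sort_coe, Nat.card_zpowers, oy]
  · rintro _ ⟨n, hn, rfl⟩
    exact ⟨H66.J4.conj_mem_of_norm hn hw.1, fun e => hw.2 (conj_eq_one_iff.1 e)⟩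
  · refine ncard_clsIn_eq he Nat.card_pos ?_
    rw [← H75.J4.cent_zp w, (k1 w hw).2, H75.J4.cent_zp, inf_eq_right.2 (H66.J4.cent_le_norm y)]

/-- classes selected by the order -/
noncomputable def KO (G : Type*) [Group G] (φ : ℕ → Prop) : ℕ := KH ⊤ {g : G | φ (orderOf g)}

theorem KO_split (φ : ℕ → Prop) (p : ℕ) :
    KO G φ = KH ⊤ {g : G | p ∣ orderOf g ∧ φ (orderOf g)} + KO G fun n => φ n ∧ ¬ p ∣ n := by
  rw [KO, KH_split _ (fun g => p ∣ orderOf g) fun a b h k => h.order ▸ k]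
  congr 2
  ext g; exact and_comm

omit [Finite G] in
theorem eqns_Gen : True := by
  have := @CH.eq_1.{0}
  have := @KH.eq_1.{0}
  have := @Fib.eq_1.{0}
  have := @KO.eq_1.{0}
  trivial

end H74.J4C
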