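import Cfsg.Agent.Lib.J4C.Gen
import Cfsg.Agent.Lib.J4.PBig

/-! The classes of elements of order divisible by 7, 11 or a large prime. -/

set_option autoImplicit false
set_option maxRecDepth 100000

namespace H74.J4C
open Cfsg H15 H75.J4 H75.J4.Md H96.Geo Subgroup H66.J4

theorem KH_S5 : KH (⊤ : Subgroup (Equiv.Perm (Fin 5))) Set.univ = 7 := by
  rw [KH, ncard_image_eq (g := fun σ : Equiv.Perm (Fin 5) => σ.cycleType) (X := Set.univ) (Y := Set.univ) (· = ·)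
    (fun a _ => ⟨a, trivial, rfl⟩) (fun a _ => ⟨a, trivial, rfl⟩) (by
      rintro a - a' - _ - _ - rfl rfl
      rw [cls_eq, ch_top, Equiv.Perm.isConj_iff_cycleType_eq]), ← Finset.coe_univ, ← Finset.coe_image,
    Set.ncard_coe_finset]
  decide +kernel

variable {G : Type*} [Group G] [Finite G]

omit [Finite G] in
theorem sep_ord {H : Subgroup G} {L : List G} (h : L.Pairwise fun a b => orderOf a ≠ orderOf b) :
    L.Pairwise fun a b => ¬ CH H a b := h.imp fun n c => n c.order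

theorem mem_of_coprime {x g : G} {p : ℕ} (hp : p.Prime) (o : orderOf x = p) {J : Subgroup G}
    (hJ : J ≤ centralizer {x}) (hi : zpowers x ⊓ J = ⊥) (hg : g ∈ zpowers x ⊔ J) (h : ¬ p ∣ orderOf g) : g ∈ J := by
  obtain ⟨a, ha, j, hj, rfl⟩ := mem_sup_cent hJ hg
  have e := pow_orderOf_eq_one (a * j)
  rw [(comm_zpowers ha (hJ hj)).mul_pow, mul_eq_one_iff_eq_inv] at e
  have e1 : a ^ orderOf (a * j) = 1 := mem_bot.1 (hi.le ⟨pow_mem ha _, e ▸ J.inv_mem (J.pow_mem hj _)⟩)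
  rw [eq_one_of_coprime ((Nat.Prime.coprime_iff_not_dvd hp).2 h) (by
    simpa [o] using pow_card_eq_one_of_mem ha) e1, one_mul]
  exact hj

variable [IsSimpleGroup G]

theorem fib7 (m : Md G) (φ : ℕ → Prop) (hφ : ∀ n, φ n) (y : G) (oy : orderOf y = 7) :
    KH (centralizer {y}) (Fib 7 φ y) = 7 := by
  obtain ⟨m', h⟩ := m.exists_map7 oy
  obtain ⟨h1, h2, h3, -⟩ := m'.seven_main h oy
  obtain ⟨e⟩ := m'.exists_S5 h oy
  generalize hJ : m'.C3 ⊓ centralizer {y} = J at h1 h2 e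
  have l : J ≤ centralizer {y} := hJ ▸ inf_le_right
  refine Eq.trans (ncard_image_eq (fun r σ => (e.symm σ : G) = r) (fun r hr => ?_)
    (fun σ _ => ⟨_, ⟨l (e.symm σ).2, fun d => ?_, hφ _⟩, rfl⟩) ?_) KH_S5
  · exact ⟨e ⟨r, mem_of_coprime (by norm_num) oy l h2 (h1.ge hr.1) hr.2.1⟩, trivial, by simp⟩
  · rw [orderOf_coe, e.symm.orderOf_eq] at d
    have := d.trans (orderOf_dvd_natCard σ)
    rw [Nat.card_perm, Nat.card_fin] at this
    exact absurd this (by decide)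
  · rintro _ - _ - σ - τ - rfl rfl
    rw [cls_eq, cls_eq]
    refine ⟨fun ⟨k, hk, c⟩ => ?_, fun ⟨k, _, c⟩ => ⟨e.symm k, l (e.symm k).2, by rw [← c]; simp⟩⟩
    obtain ⟨a, ha, j, hj, rfl⟩ := mem_sup_cent l (h1.ge hk)
    refine ⟨e ⟨j, hj⟩, trivial, e.symm.injective (Subtype.ext ?_)⟩
    simp only [map_mul, map_inv, MulEquiv.symm_apply_apply, coe_mul, coe_inv]
    rw [← c, show a * j * (e.symm σ : G) * (a * j)⁻¹ = a * (j * (e.symm σ : G) * j⁻¹) * a⁻¹ by group,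
      (comm_zpowers ha (l (conj_mem_of_norm (le_normalizer hj) (e.symm σ).2))).eq, mul_inv_cancel_right]

theorem block7 (m : Md G) (φ : ℕ → Prop) (hφ : ∀ n, φ n) :
    KH ⊤ {g : G | 7 ∣ orderOf g ∧ φ (orderOf g)} = 14 := by
  rw [block_const (by norm_num) (exp_of_not_sq (by norm_num) m.not49) φ (fib7 m φ hφ)]
  obtain ⟨y, -, oy⟩ := exists_order (K := m.H) (p := 7) (by norm_num) (by rw [m.card_H]; norm_num)
  obtain ⟨m', h⟩ := m.exists_map7 oy
  obtain ⟨-, -, h3, h4, -⟩ := m'.seven_main h oy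
  have := KP (e := 3) (by norm_num) m.not49 oy (by rw [h3, h4])
  omega

variable {m : Md G} {x : G} {U : Subgroup G} (j : J11 m x U)
include j

theorem block_big {p e : ℕ} (hp : (p, p * e) ∈ [(23, 23 * 22), (29, 29 * 28), (31, 31 * 10), (37, 37 * 12), (43, 43 * 14)])
    (φ : ℕ → Prop) (hφ : φ p) : KH ⊤ {g : G | p ∣ orderOf g ∧ φ (orderOf g)} * e = p - 1 := by
  obtain ⟨pp, d, p2⟩ := (by decide +kernel : ∀ q ∈ [(23, 23 * 22), (29, 29 * 28), (31, 31 * 10), (37, 37 * 12),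
    (43, 43 * 14)], q.1.Prime ∧ q.1 ∣ 86775571046077562880 ∧ ¬ q.1 ^ 2 ∣ 86775571046077562880) _ hp
  rw [← j.hc] at d p2
  rw [block_const (c := 1) pp (exp_of_not_sq pp p2) φ fun y oy => ?_, mul_one]
  · obtain ⟨y, -, oy⟩ := exists_order (K := (⊤ : Subgroup G)) pp (by rwa [card_top])
    refine KP pp p2 oy ?_
    rw [(big j hp oy).2, (big j hp oy).1, Nat.card_zpowers, oy, mul_comm]
  · refine KH_list [1] (by simp [Fib, pp.ne_one, hφ]) (by simp) fun r hr => ⟨1, by simp, ?_⟩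
    have := orderOf_dvd_card_of_mem ((big j hp oy).1.le hr.1)
    rw [Nat.card_zpowers, oy] at this
    rcases (Nat.dvd_prime pp).1 this with e | e
    · rw [orderOf_eq_one_iff.1 e]; exact CH.refl _ _
    · exact absurd e.ge (fun l => hr.2.1 (by rw [e]))

theorem exp11 (g : G) (k : ℕ) (e : orderOf g = 11 ^ k) : g ^ 11 = 1 := by
  obtain ⟨a, ha⟩ := conj_U j.h j.h11 j.o j.hc (P := zpowers g) (IsPGroup.of_card (by rw [Nat.card_zpowers, e]))
  have := (U_main j.h j.h11 j.o j.hc).2 _ (ha g (mem_zpowers g))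
  rwa [conj_pow, conj_eq_one_iff] at this

omit [IsSimpleGroup G] j in
/-- the quaternion group -/
def Q8 (m : Md G) : Subgroup G where
  carrier := {x | ∃ v, v < 4 ∧ ∃ c : ℕ, x = m.s v * m.z ^ c}
  one_mem' := ⟨0, by norm_num, 0, by simp [m.s_zero]⟩
  mul_mem' := by
    rintro _ _ ⟨v, hv, c, rfl⟩ ⟨w, hw, d, rfl⟩
    refine ⟨v ^^^ w, Nat.xor_lt_two_pow (n := 2) hv hw, bt v w + c + d, ?_⟩
    rw [mul_assoc, ← mul_assoc (m.z ^ c), ← m.zpow_comm (m.s_mem_H (by omega)), ← mul_assoc, ← mul_assoc,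
      m.s_mul v w (by omega) (by omega), pow_add, pow_add]
    group
  inv_mem' := by
    rintro _ ⟨v, hv, c, rfl⟩
    exact ⟨v, hv, qc v + c, by
      rw [mul_inv_rev, m.zpow_inv, m.s_inv (by omega), ← mul_assoc, ← m.zpow_comm (m.s_mem_H (by omega)),
        mul_assoc, ← pow_add, add_comm]⟩

omit [IsSimpleGroup G] j in
theorem card_Q8 (m : Md G) : Nat.card (Q8 m) = 2 ^ 3 := by
  let f : Fin 4 × Fin 2 → Q8 m := fun x => ⟨m.s x.1 * m.z ^ (x.2 : ℕ), _, x.1.2, _, rfl⟩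
  refine (Nat.card_eq_of_bijective f ⟨fun a b e => ?_, ?_⟩).symm.trans (by simp)
  · obtain ⟨i1, i2⟩ := m.s_eq (v := a.1) (w := b.1) (by omega) (by omega) (congrArg Subtype.val e)
    exact Prod.ext (Fin.ext i1) (Fin.ext (m.zpow_inj (by omega) (by omega) i2))
  · rintro ⟨_, v, hv, c, rfl⟩
    exact ⟨(⟨v, hv⟩, ⟨c % 2, Nat.mod_lt _ (by norm_num)⟩), Subtype.ext (by simp [f, ← m.zpow_mod])⟩

omit [IsSimpleGroup G] j in
theorem conj_into {C E : Subgroup G} (hE : E ≤ C) {k : ℕ} (c : Nat.card E = 2 ^ k) (n : ¬ 2 ^ (k + 1) ∣ Nat.card C)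
    {r : G} (hr : r ∈ C) {a : ℕ} (o : orderOf r = 2 ^ a) : ∃ b ∈ E, CH C b r := by
  obtain ⟨g, hg⟩ := Mdl.exists_conj_le_of_isPGroup (G := C) (E := E.subgroupOf C) (by norm_num)
    ((Nat.card_congr (subgroupOfEquivOfLe hE).toEquiv).trans c) n (Q := zpowers ⟨r, hr⟩)
    (IsPGroup.of_card (by rw [Nat.card_zpowers, ← orderOf_coe, o]))
  exact ⟨_, hg _ (mem_zpowers _), CH.symm ⟨g, g.2, rfl⟩⟩

omit [Finite G] [IsSimpleGroup G] j in
theorem two_pow_of {n N : ℕ} (h : n ∣ N) (L : List ℕ) (hL : ∀ q ∈ L, q.Prime) {K : ℕ} (hN : N ∣ (2 :: L).prod ^ K)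
    (h0 : N ≠ 0) (hn : ∀ q ∈ L, ¬ q ∣ n) : ∃ a, n = 2 ^ a :=
  eq_pow_of (fun e => h0 (by rw [e] at h; exact Nat.eq_zero_of_zero_dvd h)) fun r hr d ne => by
    have := Mdl.prime_mem_of_dvd (2 :: L) (List.forall_mem_cons.2 ⟨Nat.prime_two, hL⟩) hN hr (d.trans h)
    exact hn r ((List.mem_cons.1 this).resolve_left ne) d

theorem fib11x (φ : ℕ → Prop) (h1 : ∀ n, φ n → ¬ 3 ∣ n) (h2 : φ 11 ∧ φ 22 ∧ φ 44) :
    KH (centralizer {x}) (Fib 11 φ x) = 3 := by
  have s1 : m.s 1 * m.s 1 = m.z := by rw [m.s_sq (by norm_num), show qc 1 = 1 by decide +kernel, pow_one]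
  have o1 : orderOf (m.s 1) = 4 := by
    have := orderOf_eq_prime_pow (p := 2) (n := 1) (x := m.s 1) (by rw [pow_one, pow_two, s1]; exact m.z1)
      (by rw [show 2 ^ (1 + 1) = 2 * 2 from rfl, pow_mul, pow_two (m.s 1), s1, m.z_sq])
    exact this
  refine KH_list [1, m.z, m.s 1] ?_ ?_ fun r hr => ?_
  · simp only [List.forall_mem_cons, Fib, Set.mem_ofPred_eq, orderOf_one, m.orderOf_z, o1]
    exact ⟨⟨one_mem _, by decide, h2.1⟩, ⟨z_cent j.h, by decide, h2.2.1⟩, ⟨s_cent j.h (by norm_num), by decide, h2.2.2⟩,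
      by simp⟩
  · exact sep_ord (by simp [m.orderOf_z, o1])
  have c := card_C11 j.h j.h11 j.o j.hc
  obtain ⟨a, o⟩ := two_pow_of (c ▸ orderOf_dvd_card_of_mem hr.1) [3, 11] (by decide +kernel) (K := 3) (by decide +kernel)
    (by norm_num) (by
      simp only [List.forall_mem_cons]
      exact ⟨fun d => h1 _ hr.2.2 (d.mul_left _), hr.2.1, by simp⟩)
  obtain ⟨_, ⟨v, hv, d, rfl⟩, k⟩ := conj_into (E := Q8 m) (by
    rintro _ ⟨v, hv, d, rfl⟩
    exact mul_mem (s_cent j.h hv) (pow_mem (z_cent j.h) d)) (card_Q8 m) (by rw [c]; norm_num) hr.1 o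
  have a1 : ∀ v, v < 4 → ∀ w, w < 4 → bl w v = 1 → ∀ d : ℕ, CH (centralizer {x}) (m.s v) (m.s v * m.z ^ d) :=
    fun v hv w hw e d => by
      rcases m.zpow_cases d with e' | e' <;> rw [e']
      · rw [mul_one]; exact CH.refl _ _
      · exact ⟨_, s_cent j.h hw, by rw [m.s_conj (by omega) (by omega), e, pow_one]⟩
  have a2 : CH (centralizer {x}) (m.s 1) (m.s 2) :=
    ⟨_, ω_cent j.h, by rw [m.ω_s 1 (by norm_num), show mv Om 1 = 2 by decide +kernel]⟩
  have a3 : CH (centralizer {x}) (m.s 2) (m.s 3) :=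
    ⟨_, ω_cent j.h, by rw [m.ω_s 2 (by norm_num), show mv Om 2 = 3 by decide +kernel]⟩
  interval_cases v
  · rw [m.s_zero, one_mul] at k
    rcases m.zpow_cases d with e' | e' <;> rw [e'] at k
    exacts [⟨_, by simp, k⟩, ⟨_, by simp, k⟩]
  · exact ⟨_, by simp, (a1 1 (by norm_num) 2 (by norm_num) (by decide +kernel) d).trans k⟩
  · exact ⟨_, by simp, a2.trans ((a1 2 (by norm_num) 1 (by norm_num) (by decide +kernel) d).trans k)⟩
  · exact ⟨_, by simp, a2.trans (a3.trans ((a1 3 (by norm_num) 1 (by norm_num) (by decide +kernel) d).trans k))⟩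

theorem block11 (φ : ℕ → Prop) (h1 : ∀ n, φ n → ¬ 3 ∣ n) (h2 : φ 11 ∧ φ 22 ∧ φ 44) :
    KH ⊤ {g : G | 11 ∣ orderOf g ∧ φ (orderOf g)} = 5 := by
  obtain ⟨y, oy, c, ⟨t, t1, t2, -, ty⟩, cov⟩ := two_11 j.h j.h11 j.o j.hc j.hP
  have ot : orderOf t = 2 := orderOf_eq_prime (by rw [pow_two, t2]) t1
  rw [block (by norm_num) (exp11 j) φ [x, y] (by simp [oy, order_11 j.h j.h11]) (by
      simp only [List.pairwise_cons, List.forall_mem_cons, List.not_mem_nil, IsEmpty.forall_iff, implies_true,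
        List.Pairwise.nil, and_true]
      intro k
      have := card_cent_of_conj k.isConj
      rw [c, card_C11 j.h j.h11 j.o j.hc] at this
      exact absurd this (by norm_num))
    fun w ow => (cov w ow).elim (fun k => ⟨x, by simp, ch_top.2 k⟩) fun k => ⟨y, by simp, ch_top.2 k⟩,
    List.map_cons, List.map_cons, fib11x j φ h1 h2, KH_list [1, t] ?_ ?_ fun r hr => ?_]
  · rfl
  · simp only [List.forall_mem_cons, Fib, Set.mem_ofPred_eq, orderOf_one, ot]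
    exact ⟨⟨one_mem _, by decide, h2.1⟩, ⟨mem_cent.2 ty.symm, by decide, h2.2.1⟩, by simp⟩
  · exact sep_ord (by simp [ot])
  obtain ⟨a, o⟩ := two_pow_of (c ▸ orderOf_dvd_card_of_mem hr.1) [11] (by decide +kernel) (K := 2) (by decide +kernel)
    (by norm_num) (by simpa using hr.2.1)
  obtain ⟨b, hb, k⟩ := conj_into (E := zpowers t) (k := 1) (zpowers_le.2 (mem_cent.2 ty.symm))
    (by rw [Nat.card_zpowers, ot]; rfl) (by rw [c]; norm_num) hr.1 o
  obtain ⟨i, hi, rfl⟩ := exists_pow_of_mem hb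
  rw [ot] at hi
  interval_cases i
  · exact ⟨1, by simp, by simpa using k⟩
  · exact ⟨t, by simp, by simpa using k⟩

omit [Finite G] [IsSimpleGroup G] j in
theorem eqns_Odd : True := by
  have := @Q8.eq_1.{0}
  trivial

end H74.J4C
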