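import Cfsg.Agent.Lib.J4C.Odd

/-! The classes of elements of order divisible by 3. -/

set_option autoImplicit false
set_option maxRecDepth 100000

namespace H74.J4C
open Cfsg H15 H75.J4 H75.J4.Md H96.Geo Subgroup H66.J4

variable {G : Type*} [Group G] [Finite G] (m : Md G)

theorem div_central {k k' : G} (hk : k ∈ m.K0) (hk' : k' ∈ m.K0) (e : m.π k = m.π k') :
    ∃ i j : ℕ, k' = k * (m.ω ^ i * m.z ^ j) := by
  obtain ⟨i, j, e1⟩ := m.K_ker (m.K0_le (mul_mem (inv_mem hk) hk')) (by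
    rw [m.π_mul' (inv_mem hk.1) hk'.1, m.π_inv hk.1, e, inv_mul_cancel])
  exact ⟨i, j, by rw [← e1]; group⟩

omit [Finite G] in
theorem comm_central {r : G} (hr : r ∈ m.K0) (i j : ℕ) : Commute r (m.ω ^ i * m.z ^ j) :=
  (Commute.pow_right (mem_cent.1 hr.2) i).mul_right (Commute.pow_right (m.mem_H.1 hr.1) j)

theorem two_lifts {r r' : G} (hr : r ∈ m.K0) (hr' : r' ∈ m.K0) (e : m.π r = m.π r') (o : ¬ 3 ∣ orderOf r)
    (o' : ¬ 3 ∣ orderOf r') : r' = r ∨ r' = r * m.z := by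
  obtain ⟨i, j, rfl⟩ := div_central m hr hr' e
  generalize hn : orderOf (r * (m.ω ^ i * m.z ^ j)) = n at o'
  have h : (r * (m.ω ^ i * m.z ^ j)) ^ (n * (orderOf r * 2)) = 1 := by rw [pow_mul, ← hn, pow_orderOf_eq_one, one_pow]
  rw [(comm_central m hr i j).mul_pow, (Commute.pow_pow (show Commute m.ω m.z from m.ω_z) i j).mul_pow,
    mul_left_comm, pow_mul r, pow_orderOf_eq_one, one_pow, one_mul, ← mul_assoc, mul_comm _ 2, pow_mul (m.z ^ j),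
    pow_two, m.zpow_self, one_pow, mul_one] at h
  rw [eq_one_of_coprime (a := 3) (x := m.ω ^ i) ((Nat.Prime.coprime_iff_not_dvd Nat.prime_three).2 fun d => by
    rcases (Nat.Prime.dvd_mul Nat.prime_three).1 d with d | d
    · exact absurd d (by decide)
    · exact ((Nat.Prime.dvd_mul Nat.prime_three).1 d).elim o o') (by
      rw [← pow_mul, mul_comm, pow_mul, m.ω3, one_pow]) h, one_mul]
  rcases m.zpow_cases j with c | c <;> simp [c]

theorem exists_lift3 {x : Equiv.Perm GolayPt} (hx : x ∈ Spor.M22) (o : ¬ 3 ∣ orderOf x) :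
    ∃ r ∈ m.K0, m.π r = x ∧ ¬ 3 ∣ orderOf r := by
  obtain ⟨E, F, P⟩ := exists_parts (G := G) Nat.prime_three
  obtain ⟨k, hk⟩ := m.φ0_surj ⟨x, hx⟩
  have e : m.π k = x := congrArg Subtype.val hk
  refine ⟨_, pow_mem k.2 F, ?_, P.snd _⟩
  obtain ⟨a, ha⟩ := P.fst (k : G)
  have : m.π ((k : G) ^ E) = 1 := eq_one_of_coprime (a := 3 ^ a) (b := orderOf x)
    (Nat.Coprime.pow_left a ((Nat.Prime.coprime_iff_not_dvd Nat.prime_three).2 o))
    (by rw [← m.π_pow (pow_mem k.2.1 E), ← ha, pow_orderOf_eq_one, m.π_one])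
    (by rw [m.π_pow k.2.1, e, ← pow_mul, mul_comm, pow_mul, pow_orderOf_eq_one, one_pow])
  rw [← e]
  conv_rhs => rw [← P.mul (k : G), m.π_mul' (pow_mem k.2.1 E) (pow_mem k.2.1 F), this, one_mul]

/-- the two lifts are fused -/
def Fus (r : G) : Prop := CH m.K0 r (r * m.z)

theorem Fus.tr {r r' : G} (h : Fus m r) (hr : r ∈ m.K0) (hr' : r' ∈ m.K0) (e : m.π r = m.π r') (o : ¬ 3 ∣ orderOf r)
    (o' : ¬ 3 ∣ orderOf r') : Fus m r' := by
  rcases two_lifts m hr hr' e o o' with rfl | rfl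
  · exact h
  · rw [Fus, mul_assoc, m.zz, mul_one]; exact CH.symm h

theorem not_fus {r : G} (hr : r ∈ m.K0)
    (h : Spor.M22 ⊓ centralizer {m.π r} ≤ ((m.K0 ⊓ centralizer {r}).subgroupOf m.H).map m.πH) : ¬ Fus m r := by
  rintro ⟨k, hk, e⟩
  have e1 := congrArg m.π e
  rw [m.π_conj hk.1 hr.1, m.π_mul' hr.1 m.z_mem_H, m.π_z, mul_one, mul_inv_eq_iff_eq_mul] at e1
  obtain ⟨⟨k', _⟩, ⟨h1 : k' ∈ m.K0, h2 : k' ∈ centralizer {r}⟩, e2⟩ := h ⟨(m.mem_K0.1 hk).2, mem_cent.2 e1⟩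
  obtain ⟨i, j, e3⟩ := div_central m h1 hk e2
  rw [e3, mul_assoc k', ← (comm_central m hr i j).eq, ← mul_assoc, mul_inv_rev, mul_assoc,
    mul_inv_cancel_left, mem_cent.1 h2, mul_inv_cancel_right, left_eq_mul] at e
  exact m.z1 e

theorem not_fus_cyc {r : G} (hr : r ∈ m.K0)
    (h : Nat.card ↥(Spor.M22 ⊓ centralizer {m.π r}) = orderOf (m.π r)) : ¬ Fus m r := by
  refine not_fus m hr ?_
  rw [← eq_of_le_of_card_ge (H := zpowers (m.π r)) (zpowers_le.2 (mem_inf.2 ⟨(m.mem_K0.1 hr).2, mem_cent.2 rfl⟩))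
    (by rw [h, Nat.card_zpowers]), zpowers_le]
  exact ⟨⟨r, hr.1⟩, ⟨hr, mem_cent.2 rfl⟩, rfl⟩

omit [Finite G] in
theorem not3_of {r : G} {a : ℕ} (h : r ^ 2 ^ a = 1) : ¬ 3 ∣ orderOf r := fun d =>
  absurd (Nat.Prime.dvd_of_dvd_pow Nat.prime_three (d.trans (orderOf_dvd_of_pow_eq_one h))) (by decide)

theorem cls_cases : ∀ i : Fin M22.cls.length, ¬ 3 ∣ M22.cls[i].o → M22.cls[i].o ≠ 7 →
    (i : ℕ) = 4 ∨ M22.cls[i].z = M22.cls[i].o ∨ M22.cls[i].c = idP ∨ M22.cls[i].c = M22.c2A ∨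
      M22.cls[i].c = M22.c4A := by decide +kernel

theorem cls_seven : ∀ i : Fin M22.cls.length, M22.cls[i].o ≠ 7 → ¬ 7 ∣ M22.cls[i].o * 6 := by decide +kernel

variable [IsSimpleGroup G]

theorem fib3 (φ : ℕ → Prop) (hφ : ∀ n, φ (3 * n) ↔ ¬ 7 ∣ n)
    (hA : ∃ r ∈ m.K0, m.π r = permOf M22.c4A ∧ r ^ 2 ^ 2 = 1 ∧
      ∀ s ∈ M22.z4A.gens, ∃ k ∈ m.K0, m.π k = permOf s ∧ k * r = r * k)
    (hB : ∃ r ∈ m.K0, m.π r = permOf M22.c4B ∧ r ^ 2 ^ 2 = 1 ∧ Fus m r) :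
    KH (centralizer {m.ω}) (Fib 3 φ m.ω) = 15 := by
  classical
  have T := M22.table
  have hK : centralizer {m.ω} = m.K0 := le_antisymm (le_inf m.cent_ω_le le_rfl) inf_le_right
  have ex : ∀ i : Fin M22.cls.length, ∃ r ∈ m.K0, ¬ 3 ∣ M22.cls[i].o → m.π r = permOf M22.cls[i].c ∧ ¬ 3 ∣ orderOf r :=
    fun i => by
      by_cases o : 3 ∣ M22.cls[i].o
      · exact ⟨1, one_mem _, fun h => absurd o h⟩
      · obtain ⟨r, hr, e⟩ := exists_lift3 m (T.good _ (List.getElem_mem i.2)).2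
          (by rw [T.ord _ (List.getElem_mem i.2)]; exact o)
        exact ⟨r, hr, fun _ => e⟩
  choose ρ hρ hρ' using ex
  have dv : ∀ r ∈ m.K0, orderOf (m.π r) ∣ orderOf r ∧ orderOf r ∣ orderOf (m.π r) * 6 := fun r hr => by
    refine ⟨orderOf_dvd_of_pow_eq_one (by rw [← m.π_pow hr.1, pow_orderOf_eq_one, m.π_one]), ?_⟩
    obtain ⟨i, j, e⟩ := m.K_ker (m.K0_le (pow_mem hr (orderOf (m.π r)))) (by rw [m.π_pow hr.1, pow_orderOf_eq_one])
    refine orderOf_dvd_of_pow_eq_one ?_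
    rw [pow_mul, e, (Commute.pow_pow (show Commute m.ω m.z from m.ω_z) i j).mul_pow, ← pow_mul, ← pow_mul,
      mul_comm i, mul_comm j, show 6 * i = 3 * (2 * i) by ring, show 6 * j = 2 * (3 * j) by ring, pow_mul, pow_mul m.z,
      m.ω3, m.z_sq, one_pow, one_pow, one_mul]
  have πz : ∀ r ∈ m.K0, ∀ c : ℕ, m.π (r * m.z ^ c) = m.π r := fun r hr c => by
    rw [m.π_mul' hr.1 (pow_mem m.z_mem_H c), m.π_zpow, mul_one]
  have o3 : ∀ r ∈ m.K0, ∀ c : ℕ, ¬ 3 ∣ orderOf r → ¬ 3 ∣ orderOf (r * m.z ^ c) := fun r hr c h d => by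
    have := d.trans (Commute.orderOf_mul_dvd_mul_orderOf (m.zpow_comm hr.1 c))
    rcases (Nat.Prime.dvd_mul Nat.prime_three).1 this with d | d
    · exact h d
    · exact not3_of (a := 1) (by rw [pow_one, pow_two, m.zpow_self]) d
  have nf : ∀ i : Fin M22.cls.length, ¬ 3 ∣ M22.cls[i].o → M22.cls[i].o ≠ 7 → (Fus m (ρ i) ↔ (i : ℕ) = 4) := by
    intro i o o7
    obtain ⟨e, o'⟩ := hρ' i o
    have hi := List.getElem_mem i.2
    refine ⟨fun f => ?_, fun h4 => ?_⟩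
    swap
    · obtain ⟨r, hr, e1, r4, f⟩ := hB
      refine f.tr m hr (hρ i) ?_ (not3_of r4) o'
      rw [e, e1]
      obtain ⟨i, hi⟩ := i
      subst h4; rfl
    rcases cls_cases i o o7 with c | c | c | c | c
    · exact c
    · exact absurd f (not_fus_cyc m (hρ i) (by rw [e]; exact (T.cent _ hi).trans (c.trans (T.ord _ hi).symm)))
    · obtain ⟨k, -, e1⟩ := f.tr m (hρ i) (one_mem _) (by rw [e, c, permOf_idP, m.π_one]) o' (by simp)
      exact absurd (by simpa using e1.symm) m.z1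
    · obtain ⟨-, f1, f2, -⟩ := m.fusion
      have hx := m.KR_xh.mem_K0 (by decide +kernel)
      refine absurd (f2.trans (CH.isConj (f.tr m (hρ i) hx (by rw [e, c, m.KR_xh.per]) o' ?_)).symm) f1
      have := o3 _ (mul_mem hx m.z_mem_K0) 1 (by rw [← ord_of_conj f2, m.orderOf_z]; decide)
      rwa [pow_one, mul_assoc, m.zz, mul_one] at this
    · obtain ⟨r, hr, e1, r4, h⟩ := hA
      refine absurd (f.tr m (hρ i) hr (by rw [e, c, e1]) o' (not3_of r4)) (not_fus m hr ?_)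
      rw [e1]
      refine le_of_grp_eq M22.cent4A.2 fun s hs => ⟨(by decide +kernel : ∀ s ∈ M22.z4A.gens, okP s = true) s hs, ?_⟩
      obtain ⟨k, hk, e2, e3⟩ := h s hs
      exact ⟨⟨k, hk.1⟩, ⟨hk, mem_cent.2 e3⟩, e2⟩
  rw [KH_eq (ι := Fin M22.cls.length × Fin 2) (Finset.univ.filter fun q => ¬ 3 ∣ M22.cls[q.1].o ∧ M22.cls[q.1].o ≠ 7 ∧
    ((q.1 : ℕ) = 4 → q.2 = 0)) (fun q => ρ q.1 * m.z ^ (q.2 : ℕ)) (fun q hq => ?_) (fun q hq q' hq' h => ?_)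
    fun r hr => ?_]
  · decide +kernel
  · rw [Finset.mem_filter] at hq
    obtain ⟨e, o⟩ := hρ' q.1 hq.2.1
    have hr := mul_mem (hρ q.1) (pow_mem m.z_mem_K0 q.2)
    refine ⟨hr.2, o3 _ (hρ _) _ o, (hφ _).2 fun d => ?_⟩
    have := d.trans (dv _ hr).2
    rw [πz _ (hρ _), e, T.ord M22.cls[q.1] (List.getElem_mem q.1.2)] at this
    exact cls_seven _ hq.2.2.1 this
  · rw [Finset.mem_filter] at hq hq'
    rw [hK] at h
    obtain ⟨i, c⟩ := q
    obtain ⟨i', c'⟩ := q'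
    obtain rfl : i = i' := by
      obtain ⟨k, hk, e⟩ := h
      have e1 := congrArg m.π e
      rw [m.π_conj hk.1 (mul_mem (hρ _).1 (pow_mem m.z_mem_H _)), πz _ (hρ _), πz _ (hρ _), (hρ' _ hq.2.1).1,
        (hρ' _ hq'.2.1).1] at e1
      have hk' := (m.mem_K0.1 hk).2
      by_contra n
      rcases lt_or_gt_of_ne n with l | l
      · exact List.pairwise_iff_getElem.1 T.sep i i' i.2 i'.2 l _ hk' e1
      · refine List.pairwise_iff_getElem.1 T.sep i' i i'.2 i.2 l _ (inv_mem hk') ?_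
        exact e1 ▸ by group; rfl
    refine Prod.ext rfl ?_
    by_contra n
    have f : Fus m (ρ i) := by
      revert h n
      fin_cases c <;> fin_cases c' <;> simp [Fus]
      exact CH.symm
    have := (nf i hq.2.1 hq.2.2.1).1 f
    exact n ((hq.2.2.2 this).trans (hq'.2.2.2 this).symm)
  · have hr' : r ∈ m.K0 := hK ▸ hr.1
    obtain ⟨e, he, x, hx, e1⟩ := T.cover _ (m.mem_K0.1 hr').2
    obtain ⟨i, hi, rfl⟩ := List.getElem_of_mem he
    obtain ⟨k, hk⟩ := m.φ0_surj ⟨x, hx⟩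
    have ek : m.π k = x := congrArg Subtype.val hk
    have oi : M22.cls[i].o ∣ orderOf r := by
      rw [← T.ord _ he, CH.order (H := ⊤) ⟨x, trivial, e1⟩]; exact (dv r hr').1
    have o : ¬ 3 ∣ M22.cls[i].o := fun d => hr.2.1 (d.trans oi)
    have o7 : M22.cls[i].o ≠ 7 := fun d => (hφ _).1 hr.2.2 (d ▸ oi)
    obtain ⟨e2, o'⟩ := hρ' ⟨i, hi⟩ o
    have c : CH m.K0 ((k : G)⁻¹ * r * (k : G)⁻¹⁻¹) r := CH.symm ⟨_, inv_mem k.2, rfl⟩
    rw [hK]
    rcases two_lifts m (hρ ⟨i, hi⟩) (mul_mem (mul_mem (inv_mem k.2) hr') (inv_mem (inv_mem k.2))) (by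
      rw [e2, m.π_conj (inv_mem k.2.1) hr'.1, m.π_inv k.2.1, ek, ← e1]; group; rfl) o' (by rw [c.order]; exact hr.2.1)
      with e3 | e3 <;> rw [e3] at c
    · exact ⟨(⟨i, hi⟩, 0), Finset.mem_filter.2 ⟨Finset.mem_univ _, o, o7, fun _ => rfl⟩, by simpa using c⟩
    · by_cases h4 : i = 4
      · exact ⟨(⟨i, hi⟩, 0), Finset.mem_filter.2 ⟨Finset.mem_univ _, o, o7, fun _ => rfl⟩, by
          simpa using CH.trans ((nf ⟨i, hi⟩ o o7).2 h4) c⟩
      · exact ⟨(⟨i, hi⟩, 1), Finset.mem_filter.2 ⟨Finset.mem_univ _, o, o7, fun e => absurd e h4⟩, by simpa using c⟩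

theorem block3 (hc : Nat.card G = 86775571046077562880) (φ : ℕ → Prop) (hφ : ∀ n, φ (3 * n) ↔ ¬ 7 ∣ n)
    (hA : ∃ r ∈ m.K0, m.π r = permOf M22.c4A ∧ r ^ 2 ^ 2 = 1 ∧
      ∀ s ∈ M22.z4A.gens, ∃ k ∈ m.K0, m.π k = permOf s ∧ k * r = r * k)
    (hB : ∃ r ∈ m.K0, m.π r = permOf M22.c4B ∧ r ^ 2 ^ 2 = 1 ∧ Fus m r) :
    KH ⊤ {g : G | 3 ∣ orderOf g ∧ φ (orderOf g)} = 15 := by
  rw [block (by norm_num) (fun g k e => ?_) φ [m.ω] (by simp [m.orderOf_ω]) (by simp)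
    fun w ow => ⟨m.ω, by simp, ch_top.2 (m.conj_three ow)⟩, List.map_singleton, List.sum_singleton, fib3 m φ hφ hA hB]
  obtain ⟨R, c, h⟩ := m.exists_R0
  obtain ⟨a, ha⟩ := Mdl.exists_conj_le_of_isPGroup (p := 3) (k := 3) (by norm_num) c (by rw [hc]; norm_num)
    (Q := zpowers g) (IsPGroup.of_card (by rw [Nat.card_zpowers, e]))
  have := ((h _).1 (ha g (mem_zpowers g))).2.2
  rwa [conj_pow, conj_eq_one_iff] at this

omit [Finite G] [IsSimpleGroup G] in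
theorem eqns_Three : True := by
  have := @Fus.eq_1.{0}
  trivial

end H74.J4C
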