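import Cfsg.Agent.Lib.J4C.Three
import Cfsg.Agent.Lib.J4.P11J

/-! Words in the fourth Janko group. -/

set_option autoImplicit false
set_option maxRecDepth 100000

namespace H74.J4C
open H54 hiding bnot bnot_eq_true In grp Enum Good c24
open H15 hiding allLt allLt_iff Good force force_eq
open H66.Vec H66.J4 Cfsg Cfsg.Spor H15.Mdl H75.J4 Subgroup

/-- all the letters -/
noncomputable def LA : List ℕ := LB ++ (LQ ++ LV)

theorem allIn_LA : AllIn RJ2 ⊤ LA := allIn_LB.append (allIn_LQ.append (allIn_LV.mono le_top))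

/-- the letters are below `n` -/
noncomputable def okW (n : ℕ) (w : List ℕ) : Bool := allL (fun l => Nat.ble (Nat.succ l) n) w

theorem okW_spec {n : ℕ} {w : List ℕ} (h : okW n w = true) : ∀ l ∈ w, l < n := fun l hl =>
  Nat.le_of_ble_eq_true ((allL_iff _ _).1 h l hl)

/-- the element of a word -/
noncomputable def eW (w : List ℕ) : J4 := elc RJ2 (oJ.word LA w)

theorem rW {w : List ℕ} (h : okW 36 w = true) : RJ2 (eW w) (oJ.word LA w) :=
  (elc_spec sJ (In.word sJ allIn_LA w (okW_spec h))).1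

/-- `g` has code `c` and lies over the permutation with code `a` -/
structure HW (g : J4) (c a : ℕ) : Prop where
  mem : g ∈ mdJ.H
  r : RJ2 g c
  ok : okP a = true
  per : mdJ.π g = permOf a

theorem HW.mul {g g' : J4} {c c' a a' : ℕ} (h : HW g c a) (h' : HW g' c' a') :
    HW (g * g') (oJ.mul c c') (H15.mulP a a') :=
  ⟨mul_mem h.mem h'.mem, sJ.mul h.r h'.r, okP_mulP h.ok h'.ok, by
    rw [mdJ.π_mul' h.mem h'.mem, h.per, h'.per, permOf_mulP h.ok h'.ok]⟩

/-- the permutations below the letters -/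
def LP : List ℕ := [idP, idP, idP, idP, idP, idP, idP, idP, idP, idP, idP, idP, idP, idP, betaC, kappaC, gammaC]

theorem hw_let (i : ℕ) (hi : i < 17) : HW (eJ i) (nth LQ i) (nth LP i) := by
  refine ⟨mdJ.mem_H.2 (eJ_z i hi), reJ i hi, (by decide +kernel : ∀ i, i < 17 → okP (nth LP i) = true) i hi, ?_⟩
  rcases Nat.lt_or_ge i 12 with c | c
  · have h : allLt (fun i => oJ.eqv (sC oJ LQ (nth LQ 12) 12 (2 ^ i)) (nth LQ i)) 12 = true := by decide +kernel
    rw [← (sJ.eqv_iff (r_s _) (reJ i hi)).1 ((allLt_iff _ _).1 h i c),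
      mdJ.π_s _ (Nat.pow_lt_pow_right (by norm_num) c : 2 ^ i < 2 ^ 12),
      (by decide +kernel : ∀ i, i < 12 → nth LP i = idP) i c, permOf_idP]
  · interval_cases i
    · rw [sJ.inj (reJ 12 hi) rzJ]; exact mdJ.π_z.trans permOf_idP.symm
    · exact mdJ.π_ω.trans permOf_idP.symm
    · exact mdJ.π_u
    · exact mdJ.π_k
    · exact mdJ.π_σ

/-- the permutation below a word -/
noncomputable def pW (w : List ℕ) : ℕ :=
  List.rec (motive := fun _ => ℕ) idP (fun j _ ih => force ih fun x => force (nth LP j) fun y => H15.mulP y x) w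

theorem word_cons (o : Ops) (S : List ℕ) (j : ℕ) (w : List ℕ) :
    o.word S (j :: w) = o.mul (nth S j) (o.word S w) := rfl

theorem pW_cons (j : ℕ) (w : List ℕ) : pW (j :: w) = H15.mulP (nth LP j) (pW w) := rfl

theorem hw_word : ∀ w : List ℕ, (∀ l ∈ w, l < 17) → ∃ g, HW g (oJ.word LQ w) (pW w)
  | [], _ => ⟨1, one_mem _, sJ.one, okP_idP, mdJ.π_one.trans permOf_idP.symm⟩
  | j :: w, h => by
    obtain ⟨g, hg⟩ := hw_word w fun i hi => h i (List.mem_cons_of_mem _ hi)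
    rw [word_cons, pW_cons]
    exact ⟨_, (hw_let j (h j List.mem_cons_self)).mul hg⟩

/-- the element of a word in the centraliser of the involution -/
noncomputable def eH (w : List ℕ) : J4 := elc RJ2 (oJ.word LQ w)

theorem hW {w : List ℕ} (h : okW 17 w = true) : HW (eH w) (oJ.word LQ w) (pW w) := by
  obtain ⟨g, hg⟩ := hw_word w (okW_spec h)
  rwa [show eH w = g from sJ.inj (elc_spec sJ (H := ⊤) ⟨g, trivial, hg.r⟩).1 hg.r]

theorem HW.mem_K0 {g : J4} {c a : ℕ} (h : HW g c a) (e : oJ.comm c (nth LQ 13) = true) : g ∈ mdJ.K0 :=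
  ⟨h.mem, mem_cent.2 ((sJ.comm_iff h.r r_ω).1 e)⟩

/-- lifts of elements of order four -/
def w3 : List (List ℕ) := [[14, 15, 14, 15, 14, 15, 15, 14, 15, 14, 15, 15, 14, 15, 14, 15, 15, 14, 15, 14, 15], [14, 14, 14, 14, 14, 15, 15, 14, 14, 14, 15, 14, 15, 14, 15, 14, 14], [14, 14, 14, 15, 15, 14, 14, 14, 14, 15, 14, 14, 14, 15, 14, 14, 14, 14], [14, 14, 14, 15, 15, 14, 15, 14, 15, 14, 14, 14, 15, 14, 15, 15, 15, 14, 14, 14], [14, 15, 15, 15, 14, 14, 15, 15, 14, 14, 14, 15, 14, 14, 15, 15]]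

theorem hw3 (i : ℕ) (hi : i < 5) : HW (eH (nthW w3 i)) (oJ.word LQ (nthW w3 i)) (pW (nthW w3 i)) ∧
    eH (nthW w3 i) ∈ mdJ.K0 := by
  have h : allLt (fun i => band (okW 17 (nthW w3 i)) (oJ.comm (oJ.word LQ (nthW w3 i)) (nth LQ 13))) 5 = true := by
    decide +kernel
  simp only [allLt_iff, band_eq_true] at h
  exact ⟨hW (h i hi).1, (hW (h i hi).1).mem_K0 (h i hi).2⟩

theorem block3J (φ : ℕ → Prop) (hφ : ∀ n, φ (3 * n) ↔ ¬ 7 ∣ n) :
    KH ⊤ {g : J4 | 3 ∣ orderOf g ∧ φ (orderOf g)} = 15 := by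
  have a0 := hw3 0 (by decide)
  have a1 := hw3 1 (by decide)
  have a2 := hw3 2 (by decide)
  have a3 := hw3 3 (by decide)
  have a4 := hw3 4 (by decide)
  refine block3 mdJ card_J4 φ hφ ⟨_, a0.2, a0.1.per.trans (congrArg _ (by decide +kernel)),
    (sJ.isOne_iff (sJ.pow a0.1.r 4)).1 (by decide +kernel), fun s hs => ?_⟩
    ⟨_, a3.2, a3.1.per.trans (congrArg _ (by decide +kernel)), (sJ.isOne_iff (sJ.pow a3.1.r 4)).1 (by decide +kernel),
      _, a4.2, mul_inv_eq_iff_eq_mul.2 ((sJ.cj_iff a4.1.r a3.1.r (sJ.mul a3.1.r rzJ)).1 (by decide +kernel))⟩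
  rcases (by decide +kernel : ∀ s ∈ H96.Geo.M22.z4A.gens, s = pW (nthW w3 1) ∨ s = pW (nthW w3 2)) s hs with rfl | rfl
  · exact ⟨_, a1.2, a1.1.per, (sJ.comm_iff a1.1.r a0.1.r).1 (by decide +kernel)⟩
  · exact ⟨_, a2.2, a2.1.per, (sJ.comm_iff a2.1.r a0.1.r).1 (by decide +kernel)⟩

theorem eqns_Wd : True := by
  have := @LA.eq_1
  have := @okW.eq_1
  have := @eW.eq_1
  have := @LP.eq_1
  have := @pW.eq_1
  have := @eH.eq_1
  have := @w3.eq_1
  trivial

end H74.J4C
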